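import Cfsg.Agent.Chev.St.DataOk
import Cfsg.Agent.Chev.St.Kernel
import Cfsg.Agent.Chev.St.Present
import Cfsg.Prelude.Def_SteinbergCover
import Mathlib.Algebra.CharP.Lemmas

/-! The exceptional isogeny `x_r(t) ↦ x_{ρ r}(t^{λ_r})` in small characteristic. -/

set_option autoImplicit false

open Cfsg.Lie

namespace Cfsg.Lib.Chev.Isog

/-- The tables: images of roots and exponents. -/
structure IsoTab where
  /-- the characteristic -/
  p : ℕ
  /-- images of the roots -/
  rho : List ℕ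
  /-- exponents -/
  lam : List ℕ

variable (D : ChevalleyDatum) (I : IsoTab)

/-- The image of a root. -/
def IsoTab.rh (r : ℕ) : ℕ := I.rho.getD r 0

/-- The exponent of a root. -/
def IsoTab.lm (r : ℕ) : ℕ := I.lam.getD r 1

/-- The surviving terms, transported. -/
def srcT (L : List (ℕ × ℤ × ℕ × ℕ)) : List (ℕ × ℤ × ℕ × ℕ) :=
  (L.filter fun q => !decide (q.2.1 % (I.p : ℤ) = 0)).map fun q =>
    (I.rh q.1, (q.2.1 ^ I.lm q.1 * (-1) ^ (q.2.2.1 * I.lm q.1)) % (I.p : ℤ), q.2.2.1 * I.lm q.1, q.2.2.2 * I.lm q.1)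

/-- The surviving terms of the image pair, with exponents in the original parameters. -/
def dstT (lr ls : ℕ) (L : List (ℕ × ℤ × ℕ × ℕ)) : List (ℕ × ℤ × ℕ × ℕ) :=
  (L.filter fun q => !decide (q.2.1 % (I.p : ℤ) = 0)).map fun q =>
    (q.1, (q.2.1 * (-1) ^ q.2.2.1) % (I.p : ℤ), q.2.2.1 * lr, q.2.2.2 * ls)

/-- Root elements of `a` and `b` commute in characteristic `p`. -/
def comP (a b : ℕ) : Bool :=
  a == b || (b != D.nroots - 1 - a && (D.commTerms a b).all fun q => decide (q.2.1 % (I.p : ℤ) = 0))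

/-- Each member commutes with all later ones. -/
def pairCom : List (ℕ × ℤ × ℕ × ℕ) → Bool
  | [] => true
  | a :: L => (L.all fun b => comP D I a.1 b.1) && pairCom L

/-- The check for a pair of roots. -/
def okPair (r s : ℕ) : Bool :=
  let A := srcT I (D.commTerms r s)
  let B := dstT I (I.lm r) (I.lm s) (D.commTerms (I.rh r) (I.rh s))
  A.isPerm B && (decide (A = B) || pairCom D I A)

/-- All checks. -/
def okIso : Bool :=
  (List.range D.nroots).all fun r =>
    decide (I.rh r < D.nroots) && (I.lm r == 1 || I.lm r == I.p) && I.rh (I.rh r) == r &&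
      I.lm r * I.lm (I.rh r) == I.p &&
      (List.range D.nroots).all fun s => s == r || s == D.nroots - 1 - r ||
        (I.rh s != I.rh r && I.rh s != D.nroots - 1 - I.rh r && okPair D I r s)

variable {D} {I} {K : Type*} [Field K] {C : Cert}

theorem okIso_root (h : okIso D I = true) {r : ℕ} (hr : r < D.nroots) :
    I.rh r < D.nroots ∧ (I.lm r = 1 ∨ I.lm r = I.p) ∧ I.rh (I.rh r) = r ∧ I.lm r * I.lm (I.rh r) = I.p := by
  have := List.all_eq_true.1 h r (List.mem_range.2 hr)
  simp only [Bool.and_eq_true, Bool.or_eq_true, decide_eq_true_eq, beq_iff_eq] at this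
  exact ⟨this.1.1.1.1, this.1.1.1.2, this.1.1.2, this.1.2⟩

theorem okIso_pair (h : okIso D I = true) {r s : ℕ} (hr : r < D.nroots) (hs : s < D.nroots) (h1 : s ≠ r)
    (h2 : s ≠ D.nroots - 1 - r) :
    I.rh s ≠ I.rh r ∧ I.rh s ≠ D.nroots - 1 - I.rh r ∧ okPair D I r s = true := by
  have := List.all_eq_true.1 h r (List.mem_range.2 hr)
  simp only [Bool.and_eq_true] at this
  have := List.all_eq_true.1 this.2 s (List.mem_range.2 hs)
  simp only [Bool.and_eq_true, Bool.or_eq_true, beq_iff_eq, bne_iff_ne, h1, h2, false_or] at this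
  exact ⟨this.1.1, this.1.2, this.2⟩

theorem cast_emod [CharP K I.p] (c : ℤ) : ((c % (I.p : ℤ) : ℤ) : K) = (c : K) := by
  rw [Int.emod_def]; push_cast; rw [CharP.cast_eq_zero]; ring

theorem cast_zero [CharP K I.p] {c : ℤ} (h : c % (I.p : ℤ) = 0) : (c : K) = 0 := by
  rw [← cast_emod (I := I) c, h, Int.cast_zero]

theorem pow_lm_add [CharP K I.p] (hp : I.p.Prime) (hI : okIso D I = true) {r : ℕ} (hr : r < D.nroots) (t u : K) :
    (t + u) ^ I.lm r = t ^ I.lm r + u ^ I.lm r := by
  have : Fact I.p.Prime := ⟨hp⟩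
  rcases (okIso_root hI hr).2.1 with e | e <;> rw [e]
  · simp
  · exact add_pow_char t u I.p

variable (S : Struct D C) (hN : okNeg D = true) (okS : ∃ W, St.okSt D C W = true)

include okS in
theorem neg_eq {r : ℕ} (hr : r < D.nroots) : D.neg r = D.nroots - 1 - r := by
  obtain ⟨W, h⟩ := okS
  simp only [St.okSt, Bool.and_eq_true] at h
  exact Nat.eq_of_beq_eq_true (kall_krange h.1.1.2 r hr)

include okS in
theorem commute_comP [CharP K I.p] {a b : ℕ} (ha : a < D.nroots) (hb : b < D.nroots) (h : comP D I a b = true)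
    (t u : K) : Commute (S.ok.xG a t) (S.ok.xG b u) := by
  by_cases e : b = a
  · subst e
    show _ * _ = _ * _
    rw [S.ok.xG_mul, S.ok.xG_mul, add_comm]
  simp only [comP, Bool.or_eq_true, beq_iff_eq, Ne.symm e, false_or, Bool.and_eq_true, bne_iff_ne,
    List.all_eq_true, decide_eq_true_eq] at h
  have hc := S.ok.commRel S.chain S.base ha hb e (by rw [neg_eq okS ha]; exact h.1) t u
  have hw : S.ok.wG (D.commWord K a b t u) = 1 := by
    rw [Ok.wG]
    refine List.prod_eq_one fun g hg => ?_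
    obtain ⟨p, hp, rfl⟩ := List.mem_map.1 hg
    simp only [ChevalleyDatum.commWord, List.mem_map] at hp
    obtain ⟨q, hq, rfl⟩ := hp
    have h0 : (q.2.1 : K) * (-t) ^ q.2.2.1 * u ^ q.2.2.2 = 0 := by
      rw [cast_zero (I := I) (h.2 q hq), zero_mul, zero_mul]
    rw [h0, S.ok.xG_zero]
  rw [hw, mul_one] at hc
  exact hc.symm

/-- The value of a transported term. -/
noncomputable def termVal (t u : K) (q : ℕ × ℤ × ℕ × ℕ) : GL D.Idx K :=
  S.ok.xG q.1 ((q.2.1 : K) * t ^ q.2.2.1 * u ^ q.2.2.2)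

theorem prod_filter {α M : Type*} [Monoid M] (f : α → M) (p : α → Bool) :
    ∀ L : List α, (∀ a ∈ L, p a = false → f a = 1) → (L.map f).prod = ((L.filter p).map f).prod
  | [], _ => rfl
  | a :: L, h => by
    have ih := prod_filter f p L fun b hb => h b (List.mem_cons_of_mem _ hb)
    cases hp : p a with
    | true => rw [List.filter_cons_of_pos hp, List.map_cons, List.prod_cons, List.map_cons, List.prod_cons, ih]
    | false =>
      rw [List.filter_cons_of_neg (by simp [hp]), List.map_cons, List.prod_cons, h a List.mem_cons_self hp,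
        one_mul, ih]

theorem pairwise_pairCom : ∀ {A : List (ℕ × ℤ × ℕ × ℕ)}, pairCom D I A = true →
    A.Pairwise fun a b => comP D I a.1 b.1 = true
  | [], _ => List.Pairwise.nil
  | a :: L, h => by
    simp only [pairCom, Bool.and_eq_true, List.all_eq_true] at h
    exact List.Pairwise.cons (fun b hb => h.1 b hb) (pairwise_pairCom h.2)

include okS in
theorem image_rel [CharP K I.p] (hp : I.p.Prime) (hI : okIso D I = true) {r s : ℕ} (hr : r < D.nroots)
    (hs : s < D.nroots) (h1 : s ≠ r) (h2 : s ≠ D.neg r) (t u : K) :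
    (S.ok.xG (I.rh s) (u ^ I.lm s))⁻¹ * (S.ok.xG (I.rh r) (t ^ I.lm r))⁻¹ * S.ok.xG (I.rh s) (u ^ I.lm s) *
        S.ok.xG (I.rh r) (t ^ I.lm r) =
      ((D.commWord K r s t u).map fun p => S.ok.xG (I.rh p.1) (p.2 ^ I.lm p.1)).prod := by
  have : Fact I.p.Prime := ⟨hp⟩
  have h2' : s ≠ D.nroots - 1 - r := by rw [← neg_eq okS hr]; exact h2
  obtain ⟨g1, g2, hok⟩ := okIso_pair hI hr hs h1 h2'
  have hr' := (okIso_root hI hr).1
  have hs' := (okIso_root hI hs).1
  have hc := S.ok.commRel S.chain S.base hr' hs' g1 (by rw [neg_eq okS hr']; exact g2)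
    (t ^ I.lm r) (u ^ I.lm s)
  have hlhs : (S.ok.xG (I.rh s) (u ^ I.lm s))⁻¹ * (S.ok.xG (I.rh r) (t ^ I.lm r))⁻¹ * S.ok.xG (I.rh s) (u ^ I.lm s) *
      S.ok.xG (I.rh r) (t ^ I.lm r) = S.ok.wG (D.commWord K (I.rh r) (I.rh s) (t ^ I.lm r) (u ^ I.lm s)) := by
    rw [mul_assoc, hc]
    group
  rw [hlhs, Ok.wG, ChevalleyDatum.commWord, ChevalleyDatum.commWord, List.map_map, List.map_map]
  have hB : ((D.commTerms (I.rh r) (I.rh s)).map ((fun p => S.ok.xG p.1 p.2) ∘ fun c : ℕ × ℤ × ℕ × ℕ =>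
      (c.1, (c.2.1 : K) * (-(t ^ I.lm r)) ^ c.2.2.1 * (u ^ I.lm s) ^ c.2.2.2))).prod =
      ((dstT I (I.lm r) (I.lm s) (D.commTerms (I.rh r) (I.rh s))).map (termVal S t u)).prod := by
    rw [dstT, List.map_map, prod_filter _ (fun q : ℕ × ℤ × ℕ × ℕ => !decide (q.2.1 % (I.p : ℤ) = 0)) _ fun a _ ha => by
      simp only [Bool.not_eq_false', decide_eq_true_eq] at ha
      simp only [Function.comp_apply, cast_zero (I := I) ha, zero_mul, S.ok.xG_zero]]
    refine congrArg List.prod (List.map_congr_left fun c _ => ?_)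
    simp only [Function.comp_apply, termVal]
    congr 1
    rw [cast_emod (I := I)]
    push_cast
    rw [neg_pow, ← pow_mul, ← pow_mul, Nat.mul_comm (I.lm r), Nat.mul_comm (I.lm s)]
    ring
  have hA : ((D.commTerms r s).map ((fun p => S.ok.xG (I.rh p.1) (p.2 ^ I.lm p.1)) ∘ fun c : ℕ × ℤ × ℕ × ℕ =>
      (c.1, (c.2.1 : K) * (-t) ^ c.2.2.1 * u ^ c.2.2.2))).prod =
      ((srcT I (D.commTerms r s)).map (termVal S t u)).prod := by
    rw [srcT, List.map_map, prod_filter _ (fun q : ℕ × ℤ × ℕ × ℕ => !decide (q.2.1 % (I.p : ℤ) = 0)) _ fun a ha' ha => by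
      simp only [Bool.not_eq_false', decide_eq_true_eq] at ha
      have hk := (okIso_root hI (Ok.commTerms_lt S.chain hr hs ha')).2.1
      have : I.lm a.1 ≠ 0 := by rcases hk with e | e <;> rw [e]; exacts [one_ne_zero, hp.ne_zero]
      simp only [Function.comp_apply, cast_zero (I := I) ha, zero_mul, zero_pow this, S.ok.xG_zero]]
    refine congrArg List.prod (List.map_congr_left fun c _ => ?_)
    simp only [Function.comp_apply, termVal]
    congr 1
    rw [cast_emod (I := I)]
    push_cast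
    rw [mul_pow, mul_pow, ← pow_mul, ← pow_mul, neg_pow]
    ring
  rw [hA, hB]
  simp only [okPair, Bool.and_eq_true, Bool.or_eq_true, decide_eq_true_eq] at hok
  rcases hok.2 with e | e
  · rw [e]
  refine (List.Perm.prod_eq' ((List.isPerm_iff.1 hok.1).map _) ?_).symm
  rw [List.pairwise_map]
  refine (pairwise_pairCom e).imp_of_mem ?_
  intro a b ha hb hab
  refine commute_comP S okS ?_ ?_ hab _ _
  · simp only [srcT, List.mem_map, List.mem_filter] at ha
    obtain ⟨q, ⟨hq, -⟩, rfl⟩ := ha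
    exact (okIso_root hI (Ok.commTerms_lt S.chain hr hs hq)).1
  · simp only [srcT, List.mem_map, List.mem_filter] at hb
    obtain ⟨q, ⟨hq, -⟩, rfl⟩ := hb
    exact (okIso_root hI (Ok.commTerms_lt S.chain hr hs hq)).1

include hN okS in
/-- The isogeny is an automorphism over a perfect field. -/
theorem exists_isogeny [CharP K I.p] (hp : I.p.Prime) (hI : okIso D I = true)
    (hD : D ∈ [chevG2, chevB2, chevD4, chevF4, chevE6, chevE7, chevE8])
    (hperf : ∀ x : K, ∃ y : K, y ^ I.p = x) :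
    ∃ α : ↥(D.group K) ≃* ↥(D.group K), ∀ r < D.nroots, ∀ (t : K) (g : ↥(D.group K)),
      (g : GL D.Idx K) = S.ok.xG r t → (α g : GL D.Idx K) = S.ok.xG (I.rh r) (t ^ I.lm r) := by
  classical
  have : Fact I.p.Prime := ⟨hp⟩
  have hθ₀ : ∀ r < D.nroots, ∀ t, St.toChev S (St.ab_subset (D := D)) (St.pgen (D.steinbergRelsAB K) r t) =
      S.ok.xG r t := fun r hr t => St.toChev_pgen S _ hr t
  set θ₀ := St.toChev S (St.ab_subset (D := D) (K := K))
  set P := St.presentedPres S hN okS (subset_refl (D.steinbergRelsAB K)) θ₀ hθ₀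
  have hgen := St.presentedPres_gen_top S hN okS (subset_refl (D.steinbergRelsAB K)) θ₀ hθ₀
  have hran := St.range_eq_group P hgen
  let θ : D.SteinbergCover K →* ↥(D.group K) := θ₀.codRestrict (D.group K) fun g => hran ▸ ⟨g, rfl⟩
  have hθs : Function.Surjective θ := by
    rintro ⟨y, hy⟩
    rw [← hran] at hy
    obtain ⟨g, rfl⟩ := hy
    exact ⟨g, rfl⟩
  let f : Fin D.nroots × K → ↥(D.group K) := fun p =>
    ⟨S.ok.xG (I.rh p.1.val) (p.2 ^ I.lm p.1.val), S.ok.xG_mem_group _ _⟩
  have hx : ∀ r (hr : r < D.nroots) t, ((FreeGroup.lift f (D.stX r t) : ↥(D.group K)) : GL D.Idx K) =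
      S.ok.xG (I.rh r) (t ^ I.lm r) := fun r hr t => by
    rw [ChevalleyDatum.stX, dif_pos hr, FreeGroup.lift_apply_of]
  have hrel : ∀ g ∈ D.steinbergRelsAB K, FreeGroup.lift f g = 1 := by
    intro g hg
    refine Subtype.ext ?_
    rcases hg with ⟨r, t, u, hr, rfl⟩ | ⟨r, s, t, u, hr, hs, h1, h2, rfl⟩
    · rw [map_mul, map_mul, map_inv, Subgroup.coe_mul, Subgroup.coe_mul, Subgroup.coe_inv, hx r hr, hx r hr, hx r hr,
        pow_lm_add hp hI hr, S.ok.xG_mul, mul_inv_cancel, Subgroup.coe_one]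
    · have key : ((FreeGroup.lift f (D.stWord (D.commWord K r s t u)) : ↥(D.group K)) : GL D.Idx K) =
          ((D.commWord K r s t u).map fun p => S.ok.xG (I.rh p.1) (p.2 ^ I.lm p.1)).prod := by
        rw [ChevalleyDatum.stWord, map_list_prod, Subgroup.val_list_prod, List.map_map, List.map_map]
        refine congrArg List.prod (List.map_congr_left fun p hp' => ?_)
        refine hx _ ?_ _
        simp only [ChevalleyDatum.commWord, List.mem_map] at hp'
        obtain ⟨q, hq, rfl⟩ := hp'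
        exact Ok.commTerms_lt S.chain hr hs hq
      simp only [map_mul, map_inv, Subgroup.coe_mul, Subgroup.coe_inv, key, hx r hr, hx s hs,
        image_rel S okS hp hI hr hs h1 h2, mul_inv_cancel, Subgroup.coe_one]
  let ψ : D.SteinbergCover K →* ↥(D.group K) := PresentedGroup.toGroup hrel
  have hψ : ∀ r < D.nroots, ∀ t, (ψ (D.scGen K r t) : GL D.Idx K) = S.ok.xG (I.rh r) (t ^ I.lm r) := fun r hr t => by
    rw [ChevalleyDatum.scGen, ChevalleyDatum.stX, dif_pos hr]
    exact congrArg Subtype.val (PresentedGroup.toGroup.of hrel)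
  have hθgen : ∀ r < D.nroots, ∀ t, (θ (D.scGen K r t) : GL D.Idx K) = S.ok.xG r t := hθ₀
  have htop : ∀ H : Subgroup ↥(D.group K), (∀ r < D.nroots, ∀ t, θ (D.scGen K r t) ∈ H) → H = ⊤ := by
    intro H hH
    rw [eq_top_iff]
    intro y _
    obtain ⟨g, rfl⟩ := hθs y
    have hle : P.gen {r | r < D.nroots} ≤ H.comap θ := (Subgroup.closure_le _).2 fun x ⟨r, hr, t, e⟩ => by
      subst e; exact hH r hr t
    rw [hgen] at hle
    exact hle (Subgroup.mem_top g)
  have hψs : Function.Surjective ψ := by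
    rw [← MonoidHom.range_eq_top]
    refine htop _ fun r hr t => ?_
    obtain ⟨h1, h2, h3, -⟩ := okIso_root hI hr
    obtain ⟨u, hu⟩ : ∃ u : K, u ^ I.lm (I.rh r) = t := by
      rcases (okIso_root hI h1).2.1 with e | e <;> rw [e]
      · exact ⟨t, pow_one t⟩
      · exact hperf t
    refine ⟨D.scGen K (I.rh r) u, Subtype.ext ?_⟩
    rw [hψ _ h1, hθgen r hr, h3, hu]
  have hker : θ.ker ≤ ψ.ker := fun g hg => by
    rw [MonoidHom.ker_codRestrict] at hg
    have hc := Subgroup.mem_center_iff.1 (P.kernel hgen hg).2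
    have : ψ g ∈ Subgroup.center ↥(D.group K) := Subgroup.mem_center_iff.2 fun y => by
      obtain ⟨x, rfl⟩ := hψs y
      rw [← map_mul, ← map_mul, hc x]
    rw [St.center_group_bot hD, Subgroup.mem_bot] at this
    exact this
  let α : ↥(D.group K) →* ↥(D.group K) := θ.liftOfSurjective hθs ⟨ψ, hker⟩
  have hα : ∀ x, α (θ x) = ψ x := fun x => MonoidHom.liftOfRightInverse_comp_apply θ _ _ ⟨ψ, hker⟩ x
  have hαgen : ∀ r < D.nroots, ∀ t, (α (θ (D.scGen K r t)) : GL D.Idx K) = S.ok.xG (I.rh r) (t ^ I.lm r) :=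
    fun r hr t => by rw [hα]; exact hψ r hr t
  -- the square is the Frobenius
  let fr : GL D.Idx K →* GL D.Idx K := Matrix.GeneralLinearGroup.map (frobenius K I.p)
  have hsq : ∀ y, (α (α y) : GL D.Idx K) = fr (y : GL D.Idx K) := by
    intro y
    have hle : MonoidHom.eqLocus ((D.group K).subtype.comp (α.comp α)) (fr.comp (D.group K).subtype) = ⊤ := by
      refine htop _ fun r hr t => ?_
      show (α (α (θ (D.scGen K r t))) : GL D.Idx K) = fr (θ (D.scGen K r t) : GL D.Idx K)
      obtain ⟨h1, -, h3, h4⟩ := okIso_root hI hr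
      have e : α (θ (D.scGen K r t)) = θ (D.scGen K (I.rh r) (t ^ I.lm r)) :=
        Subtype.ext (by rw [hαgen r hr, hθgen _ h1])
      rw [e, hαgen _ h1, h3, ← pow_mul, h4, hθgen r hr]
      refine (Units.ext ?_).symm
      exact Ok.map_x D (frobenius K I.p) r t
    have hy : y ∈ MonoidHom.eqLocus ((D.group K).subtype.comp (α.comp α)) (fr.comp (D.group K).subtype) :=
      hle ▸ Subgroup.mem_top y
    exact hy
  have hinj : Function.Injective α := fun a b hab => by
    have e := (hsq a).symm.trans ((congrArg (fun z => (α z : GL D.Idx K)) hab).trans (hsq b))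
    refine Subtype.ext (Units.ext (Matrix.ext fun i j => ?_))
    have := congrArg (fun g : GL D.Idx K => (g : Matrix D.Idx D.Idx K) i j) e
    simp only [fr, Matrix.GeneralLinearGroup.map_apply] at this
    exact frobenius_inj K I.p this
  have hsurj : Function.Surjective α := fun y => by
    obtain ⟨x, rfl⟩ := hψs y
    exact ⟨θ x, hα x⟩
  refine ⟨MulEquiv.ofBijective α ⟨hinj, hsurj⟩, fun r hr t g hg => ?_⟩
  have : g = θ (D.scGen K r t) := Subtype.ext (hg.trans (hθgen r hr t).symm)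
  rw [this]
  exact hαgen r hr t

end Cfsg.Lib.Chev.Isog
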