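import Cfsg.Agent.Chev.Isog.Basic

/-! Tables of the exceptional isogenies. -/

set_option autoImplicit false
set_option Elab.async false
set_option maxHeartbeats 0
set_option maxRecDepth 20000

open Cfsg.Lie

namespace Cfsg.Lib.Chev.Isog

/-- Type B₂ in characteristic 2. -/
def isoB2 : IsoTab := ⟨2, [1, 0, 3, 2, 5, 4, 7, 6], [1, 2, 2, 1, 1, 2, 2, 1]⟩

/-- Type F₄ in characteristic 2. -/
def isoF4 : IsoTab := ⟨2, [3, 7, 8, 0, 9, 11, 18, 1, 2, 4, 15, 5, 16, 21, 23, 10, 12, 19, 6, 17, 22, 13, 20, 14, 33, 27, 34, 25, 30, 41, 28, 35, 37, 24, 26, 31, 42, 32, 43, 45, 46, 29, 36, 38, 47, 39, 40, 44],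
  [1, 1, 1, 2, 1, 1, 1, 2, 2, 2, 2, 2, 2, 2, 2, 1, 1, 1, 2, 2, 2, 1, 1, 1, 1, 1, 1, 2, 2, 2, 1, 1, 1, 2, 2, 2, 2, 2, 2, 2, 2, 1, 1, 1, 2, 1, 1, 1]⟩

/-- Type G₂ in characteristic 3. -/
def isoG2 : IsoTab := ⟨3, [2, 3, 0, 1, 5, 4, 7, 6, 10, 11, 8, 9], [1, 1, 3, 3, 3, 1, 1, 3, 3, 3, 1, 1]⟩

theorem okIso_B2 : okIso chevB2 isoB2 = true := by decide +kernel

theorem okIso_F4 : okIso chevF4 isoF4 = true := by decide +kernel

theorem okIso_G2 : okIso chevG2 isoG2 = true := by decide +kernel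

end Cfsg.Lib.Chev.Isog
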